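import Groth.Agent.TopDesc98.SS1.Abut
import Groth.Agent.SpObjSS.Homological
import Mathlib.Algebra.Category.Grp.Zero
import Mathlib.Algebra.Category.Grp.Abelian
import Mathlib.Algebra.Category.Grp.EpiMono
import Mathlib.Algebra.Homology.ShortComplex.Ab
import Mathlib.Algebra.Homology.HomotopyCategory.SpectralObject
import Mathlib.Algebra.Homology.HomotopyCategory.ShortExact
import Mathlib.Algebra.Homology.HomotopyCategory.ShiftSequence
import Mathlib.Algebra.Homology.HomologicalComplexAbelian

/-!
# The column filtration of the total complex of a first quadrant double complex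
-/

set_option autoImplicit false

universe u

open CategoryTheory CategoryTheory.Limits CategoryTheory.Abelian ComposableArrows
open scoped ZeroObject

namespace Groth.Agent.TopDesc98

/-- A double complex of abelian groups. -/
abbrev DCx : Type (u + 1) := CochainComplex (CochainComplex AddCommGrpCat.{u} ℤ) ℤ

/-- The double complex is concentrated in the first quadrant. -/
def IsQuad (K : DCx.{u}) : Prop := ∀ p q : ℤ, p < 0 ∨ q < 0 → IsZero ((K.X p).X q)

namespace DCx

variable (K : DCx.{u})

/-- The differential of the total complex on all families. -/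
noncomputable def D : (∀ p q : ℤ, (K.X p).X q) →+ (∀ p q : ℤ, (K.X p).X q) :=
  AddMonoidHom.mk'
    (fun x p q => (p.negOnePow : ℤ) • ((K.X p).d (q - 1) q).hom (x p (q - 1)) +
      ((K.d (p - 1) p).f q).hom (x (p - 1) q))
    fun x y => by
      refine funext fun p => funext fun q => ?_
      simp only [Pi.add_apply, map_add, smul_add]
      abel

lemma D_apply (x : ∀ p q : ℤ, (K.X p).X q) (p q : ℤ) :
    D K x p q = (p.negOnePow : ℤ) • ((K.X p).d (q - 1) q).hom (x p (q - 1)) +
      ((K.d (p - 1) p).f q).hom (x (p - 1) q) := rfl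

lemma D_D (x : ∀ p q : ℤ, (K.X p).X q) : D K (D K x) = 0 := by
  refine funext fun p => funext fun q => ?_
  have h₁ : ∀ z, ((K.X p).d (q - 1) q).hom (((K.X p).d (q - 1 - 1) (q - 1)).hom z) = 0 := fun z =>
    ConcreteCategory.congr_hom ((K.X p).d_comp_d (q - 1 - 1) (q - 1) q) z
  have h₂ : ∀ z, ((K.d (p - 1) p).f q).hom (((K.d (p - 1 - 1) (p - 1)).f q).hom z) = 0 := fun z =>
    ConcreteCategory.congr_hom (HomologicalComplex.congr_hom (K.d_comp_d (p - 1 - 1) (p - 1) p) q) z
  have h₃ : ∀ z, ((K.d (p - 1) p).f q).hom (((K.X (p - 1)).d (q - 1) q).hom z) =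
      ((K.X p).d (q - 1) q).hom (((K.d (p - 1) p).f (q - 1)).hom z) := fun z =>
    (ConcreteCategory.congr_hom ((K.d (p - 1) p).comm (q - 1) q) z).symm
  have hs : (((p - 1).negOnePow : ℤˣ) : ℤ) = -((p.negOnePow : ℤˣ) : ℤ) := by
    rw [Int.negOnePow_sub, Int.negOnePow_one]
    simp
  simp only [D_apply, map_add, map_zsmul, map_neg, Pi.zero_apply, h₁, h₂, h₃, hs, smul_zero, zero_add,
    add_zero, neg_smul, add_neg_cancel]

/-- The steps of the column filtration of the total complex, in degree `n`. -/
def stepGrp (j : EInt) (n : ℤ) : AddSubgroup (∀ p q : ℤ, (K.X p).X q) where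
  carrier := {x | ∀ p q, (p + q ≠ n ∨ ¬ ((1 - p : ℤ) : EInt) ≤ j) → x p q = 0}
  add_mem' hx hy p q h := by simp [hx p q h, hy p q h]
  zero_mem' _ _ _ := rfl
  neg_mem' hx p q h := by simp [hx p q h]

lemma D_mem {j : EInt} {n : ℤ} {x : ∀ p q : ℤ, (K.X p).X q} (hx : x ∈ stepGrp K j n) :
    D K x ∈ stepGrp K j (n + 1) := fun p q h => by
  rw [D_apply, hx p (q - 1), hx (p - 1) q]
  · simp
  · rcases h with h | h
    · exact Or.inl (by omega)
    · refine Or.inr fun h' => h (le_trans ?_ h')
      simp
      omega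
  · rcases h with h | h
    · exact Or.inl (by omega)
    · exact Or.inr h

open scoped Classical in
/-- A step of the column filtration of the total complex. -/
noncomputable def stepCx (j : EInt) : CochainComplex AddCommGrpCat.{u} ℤ where
  X n := AddCommGrpCat.of (stepGrp K j n)
  d a b := if h : a + 1 = b then AddCommGrpCat.ofHom (((D K).comp (stepGrp K j a).subtype).codRestrict
    (stepGrp K j b) fun x => by subst h; exact D_mem K x.2) else 0
  shape a b h := dif_neg h
  d_comp_d' a b c hab hbc := by
    obtain rfl : a + 1 = b := hab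
    obtain rfl : a + 1 + 1 = c := hbc
    rw [dif_pos rfl, dif_pos rfl]
    refine ConcreteCategory.hom_ext _ _ fun (x : stepGrp K j a) => ?_
    refine @Subtype.ext _ _ (_ : stepGrp K j (a + 1 + 1)) _ ?_
    exact D_D K x.1

lemma stepCx_d (j : EInt) (a : ℤ) (x : stepGrp K j a) :
    (((stepCx K j).d a (a + 1)).hom x : stepGrp K j (a + 1)).1 = D K x.1 := by
  dsimp [stepCx]
  rw [dif_pos rfl]
  rfl

/-- The column filtration of the total complex. -/
noncomputable def stepFunctor : EInt ⥤ CochainComplex AddCommGrpCat.{u} ℤ where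
  obj j := stepCx K j
  map {j j'} h :=
    { f := fun n => AddCommGrpCat.ofHom (AddSubgroup.inclusion
        (fun x hx p q hpq => hx p q (hpq.imp_right fun h' h'' => h' (le_trans h'' (leOfHom h)))))
      comm' := fun a b hab => by
        obtain rfl : a + 1 = b := hab
        ext x
        refine Subtype.ext ?_
        exact (stepCx_d K j' a _).trans (stepCx_d K j a x).symm }
  map_id _ := rfl
  map_comp _ _ := rfl

/-- The spectral object of the column filtration. -/
noncomputable def spObj : SpectralObject AddCommGrpCat.{u} EInt :=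
  SpObjSS.mapHomological ((HomotopyCategory.spectralObjectMappingCone AddCommGrpCat.{u}).precomp (stepFunctor K))
    (HomotopyCategory.homologyFunctor AddCommGrpCat.{u} (ComplexShape.up ℤ) 0)

/-- The value of the spectral object. -/
noncomputable def spObjIso (n : ℤ) {i j : EInt} (h : i ≤ j) :
    ((spObj K).H n).obj (mk₁ (homOfLE h)) ≅
      (CochainComplex.mappingCone ((stepFunctor K).map (homOfLE h))).homology n :=
  (HomotopyCategory.homologyFunctorFactors AddCommGrpCat.{u} (ComplexShape.up ℤ) n).app _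

theorem nonempty_spObj_iso_of_shortExact (n : ℤ) {i j : EInt} (h : i ≤ j)
    {Q : CochainComplex AddCommGrpCat.{u} ℤ} (g : stepCx K j ⟶ Q) (w : (stepFunctor K).map (homOfLE h) ≫ g = 0)
    (hS : (ShortComplex.mk _ g w).ShortExact) :
    Nonempty (((spObj K).H n).obj (mk₁ (homOfLE h)) ≅ Q.homology n) :=
  have := CochainComplex.mappingCone.quasiIso_descShortComplex hS
  ⟨spObjIso K n h ≪≫ isoOfQuasiIsoAt (CochainComplex.mappingCone.descShortComplex (ShortComplex.mk _ g w)) n⟩

lemma mono_stepFunctor_map {i j : EInt} (h : i ⟶ j) : Mono ((stepFunctor K).map h) := by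
  have : ∀ n, Mono (((stepFunctor K).map h).f n) := fun n =>
    (AddCommGrpCat.mono_iff_injective _).2 (fun _ _ e => Subtype.ext (congrArg (fun z : stepGrp K j n => z.1) e))
  exact HomologicalComplex.mono_of_mono_f _ this

lemma isZero_stepCx_bot (n : ℤ) : IsZero ((stepCx K ⊥).X n) := by
  have : Subsingleton (stepGrp K ⊥ n) := subsingleton_of_forall_eq 0 fun x => Subtype.ext <|
    funext fun p => funext fun q => x.2 p q (Or.inr (by simp))
  exact @AddCommGrpCat.isZero_of_subsingleton (AddCommGrpCat.of _) this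

/-- The whole total complex. -/
noncomputable abbrev total : CochainComplex AddCommGrpCat.{u} ℤ := stepCx K ⊤

theorem nonempty_spObj_iso_of_isZero (n : ℤ) {i j : EInt} (h : i ≤ j)
    (hi : IsZero (stepCx K i)) :
    Nonempty (((spObj K).H n).obj (mk₁ (homOfLE h)) ≅ (stepCx K j).homology n) := by
  refine nonempty_spObj_iso_of_shortExact K n h (𝟙 _) ((Category.comp_id _).trans (hi.eq_of_src _ _)) ?_
  have := mono_stepFunctor_map K (homOfLE h)
  exact { exact := (ShortComplex.exact_iff_mono _ (hi.eq_of_src _ _)).2 inferInstance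
          mono_f := this
          epi_g := inferInstanceAs (Epi (𝟙 _)) }

theorem isZero_stepCx_bot' : IsZero (stepCx K ⊥) := by
  rw [IsZero.iff_id_eq_zero]
  ext1 n
  exact (isZero_stepCx_bot K n).eq_of_src _ _

/-- The value on the whole line is the cohomology of the total complex. -/
noncomputable def totalIso (n : ℤ) :
    ((spObj K).H n).obj (mk₁ (homOfLE (bot_le : (⊥ : EInt) ≤ ⊤))) ≅ (total K).homology n :=
  (nonempty_spObj_iso_of_isZero K n bot_le (isZero_stepCx_bot' K)).some

lemma one_sub_le_iff {p c : ℤ} : ((1 - p : ℤ) : EInt) ≤ ((c : ℤ) : EInt) ↔ 1 - p ≤ c := by simp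

/-- The projection onto a column. -/
noncomputable def colMap (p : ℤ) :
    stepCx K ((-p + 1 : ℤ) : EInt) ⟶ (K.X p)⟦-p⟧ where
  f n := AddCommGrpCat.ofHom
    (AddMonoidHom.mk' (fun x : stepGrp K ((-p + 1 : ℤ) : EInt) n => x.1 p (n + -p)) fun _ _ => rfl)
  comm' a b hab := by
    obtain rfl : a + 1 = b := hab
    refine ConcreteCategory.hom_ext _ _ fun x => ?_
    have h0 : x.1 (p - 1) (a + 1 + -p) = 0 := x.2 _ _ (Or.inr (fun h => by
      have := one_sub_le_iff.1 h
      omega))
    have key : ∀ q₀, q₀ = a + -p → ((K.X p).d q₀ (a + 1 + -p)).hom (x.1 p q₀) =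
        ((K.X p).d (a + -p) (a + 1 + -p)).hom (x.1 p (a + -p)) := by
      rintro q₀ rfl
      rfl
    show (((K.X p)⟦-p⟧).d a (a + 1)).hom (x.1 p (a + -p)) =
      (((stepCx K ((-p + 1 : ℤ) : EInt)).d a (a + 1)).hom x : stepGrp K _ (a + 1)).1 p (a + 1 + -p)
    refine Eq.trans ?_ (congrFun (congrFun (stepCx_d K _ a x).symm p) (a + 1 + -p))
    rw [D_apply, h0, map_zero, add_zero, key _ (by omega), CochainComplex.shiftFunctor_obj_d',
      Int.negOnePow_neg]
    rfl

open scoped Classical in
theorem shortExact_col (p : ℤ) :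
    ∃ w : (stepFunctor K).map (homOfLE (show ((-p : ℤ) : EInt) ≤ ((-p + 1 : ℤ) : EInt) by simp)) ≫ colMap K p = 0,
      (ShortComplex.mk _ (colMap K p) w).ShortExact := by
  have hw : (stepFunctor K).map (homOfLE (show ((-p : ℤ) : EInt) ≤ ((-p + 1 : ℤ) : EInt) by simp)) ≫ colMap K p = 0 := by
    ext1 n
    refine ConcreteCategory.hom_ext _ _ fun x => ?_
    exact x.2 p (n + -p) (Or.inr fun h => by
      have := one_sub_le_iff.1 h
      omega)
  refine ⟨hw, HomologicalComplex.shortExact_of_degreewise_shortExact _ fun n => ?_⟩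
  refine ShortComplex.ShortExact.mk' ?_ ?_ ?_
  · rw [ShortComplex.ab_exact_iff]
    intro (x : stepGrp K ((-p + 1 : ℤ) : EInt) n) (hx : x.1 p (n + -p) = 0)
    refine ⟨⟨x.1, fun p' q' h => ?_⟩, rfl⟩
    by_cases hn : p' + q' = n
    · rcases h with h | h
      · exact absurd hn h
      · by_cases hp : p' = p
        · subst hp
          obtain rfl : q' = n + -p' := by omega
          exact hx
        · refine x.2 p' q' (Or.inr fun h' => h (one_sub_le_iff.2 ?_))
          have := one_sub_le_iff.1 h'
          omega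
    · exact x.2 p' q' (Or.inl hn)
  · exact (AddCommGrpCat.mono_iff_injective _).2 fun (a b : stepGrp K ((-p : ℤ) : EInt) n) e =>
      Subtype.ext (show a.1 = b.1 from congrArg (fun z : stepGrp K ((-p + 1 : ℤ) : EInt) n => z.1) e)
  · refine (AddCommGrpCat.epi_iff_surjective _).2 fun (y : (K.X p).X (n + -p)) => ?_
    let z : ∀ p' q' : ℤ, (K.X p').X q' := fun p' q' =>
      if h : p' = p ∧ q' = n + -p then h.1.symm ▸ h.2.symm ▸ y else 0
    refine ⟨⟨z, fun p' q' h => dif_neg ?_⟩, ?_⟩
    · rintro ⟨rfl, rfl⟩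
      rcases h with h | h
      · exact h (by omega)
      · exact h (one_sub_le_iff.2 (by omega))
    · show z p (n + -p) = y
      simp [z]

/-- The first page of the column filtration: the cohomology of the columns. -/
noncomputable def colIso (p n q : ℤ) (h : n = p + q) :
    ((spObj K).H n).obj (mk₁ (homOfLE (show ((-p : ℤ) : EInt) ≤ ((-p + 1 : ℤ) : EInt) by simp))) ≅
      (K.X p).homology q :=
  (nonempty_spObj_iso_of_shortExact K n _ (colMap K p) (shortExact_col K p).1 (shortExact_col K p).2).some ≪≫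
    ((HomologicalComplex.homologyFunctor AddCommGrpCat.{u} (ComplexShape.up ℤ) 0).shiftIso (-p) n q
      (by omega)).app (K.X p)

lemma isZero_homology_of_isZero {L : CochainComplex AddCommGrpCat.{u} ℤ} {n : ℤ} (h : IsZero (L.X n)) :
    IsZero (L.homology n) :=
  (HomologicalComplex.exactAt_iff_isZero_homology _ _).1 (ShortComplex.exact_of_isZero_X₂ _ h)

theorem isCol_spObj (hK : IsQuad K) : IsCol (spObj K) where
  col p q n hn h := (isZero_homology_of_isZero (hK p q h)).of_iso (colIso K p n q hn)
  low n j hj := by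
    refine IsZero.of_iso ?_ (nonempty_spObj_iso_of_isZero K n bot_le (isZero_stepCx_bot' K)).some
    refine isZero_homology_of_isZero ?_
    have : Subsingleton (stepGrp K j n) := subsingleton_of_forall_eq 0 fun x => Subtype.ext <|
      funext fun p => funext fun q => by
        by_cases h : p + q = n ∧ ((1 - p : ℤ) : EInt) ≤ j
        · have := one_sub_le_iff.1 (h.2.trans hj)
          exact @Subsingleton.elim _ (AddCommGrpCat.subsingleton_of_isZero (hK p q (Or.inr (by omega)))) _ _
        · exact x.2 p q (by tauto)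
    exact @AddCommGrpCat.isZero_of_subsingleton (AddCommGrpCat.of _) this
  high n i hi := by
    have hall : ∀ (m : ℤ) (x : stepGrp K ⊤ m), x.1 ∈ stepGrp K i m := fun m x p q h => by
      rcases h with h | h
      · exact x.2 p q (Or.inl h)
      · have hp : p < 0 := by
          by_contra hp
          exact h (le_trans (by simp; omega) hi)
        exact @Subsingleton.elim _ (AddCommGrpCat.subsingleton_of_isZero (hK p q (Or.inl hp))) _ _
    have := mono_stepFunctor_map K (homOfLE (le_top : i ≤ ⊤))
    have hepi : Epi ((stepFunctor K).map (homOfLE (le_top : i ≤ ⊤))) := by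
      have : ∀ m, Epi (((stepFunctor K).map (homOfLE (le_top : i ≤ ⊤))).f m) := fun m =>
        (AddCommGrpCat.epi_iff_surjective _).2 fun (x : stepGrp K ⊤ m) => ⟨⟨x.1, hall m x⟩, rfl⟩
      exact HomologicalComplex.epi_of_epi_f _ this
    have hz : IsZero (0 : CochainComplex AddCommGrpCat.{u} ℤ) := isZero_zero _
    refine IsZero.of_iso ((HomologicalComplex.homologyFunctor _ _ n).map_isZero hz)
      (nonempty_spObj_iso_of_shortExact K n le_top 0 comp_zero ?_).some
    exact { exact := (ShortComplex.exact_iff_epi _ rfl).2 hepi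
            mono_f := this
            epi_g := ⟨fun a b _ => hz.eq_of_src a b⟩ }

end DCx

/-- The spectral sequence of the columns of a first quadrant double complex. -/
theorem exists_spectralSequence (K : DCx.{u}) (hK : IsQuad K) (H : ℤ → AddCommGrpCat.{u})
    (eH : ∀ n, Nonempty ((DCx.total K).homology n ≅ H n))
    (E₁ : ℤ → ℤ → AddCommGrpCat.{u}) (eE : ∀ p q, Nonempty ((K.X p).homology q ≅ E₁ p q)) :
    ∃ (E : CohomologicalSpectralSequence AddCommGrpCat.{u} 1) (a : SpSeq.Abutment E H),
      (∀ n, a.IsFinite n) ∧ SpSeq.IsBounded E ∧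
      ∀ p q : ℤ, Nonempty ((E.page 1 le_rfl).X (p, q) ≅ E₁ p q) :=
  have hX := DCx.isCol_spObj K hK
  ⟨ss (DCx.spObj K), abutment H (fun n => DCx.totalIso K n ≪≫ (eH n).some) hX,
    abutment_isFinite H _ hX, isBounded hX,
    fun p q => ⟨pageOneIso (DCx.spObj K) p q ≪≫ DCx.colIso K p (p + q) q rfl ≪≫ (eE p q).some⟩⟩

end Groth.Agent.TopDesc98
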