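import Groth.Agent.SpObjSS.Abut

/-!
# The spectral sequence from page one of a spectral object indexed by minus the column index
-/

universe v u

open CategoryTheory CategoryTheory.Limits CategoryTheory.Abelian ComposableArrows

namespace Groth.Agent.TopDesc98

open Groth.Agent.SpObjSS (stepMap stepMap_comp imageSubobject_congr imageSubobject_stepMap_congr)

variable {C : Type u} [Category.{v} C] [Abelian C] (X : SpectralObject C EInt) (H : ℤ → C)
  (e : ∀ n, (X.H n).obj (mk₁ (homOfLE (bot_le : (⊥ : EInt) ≤ ⊤))) ≅ H n)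

/-- The recipe for a spectral sequence starting at page one. -/
def coreE₁ :
    SpectralObject.SpectralSequenceDataCore EInt (fun r => ComplexShape.up' (⟨r, 1 - r⟩ : ℤ × ℤ)) 1 where
  deg pq := pq.1 + pq.2
  i₀ r pq _ := (-pq.1 - r + 1 :)
  i₁ pq := (-pq.1 :)
  i₂ pq := (-pq.1 + 1 :)
  i₃ r pq _ := (-pq.1 + r :)
  le₀₁ r pq hr := by simp; lia
  le₁₂ pq := by simp
  le₂₃ r pq hr := by simp; lia
  hc := by rintro r pq _ rfl _; dsimp; lia
  hc₀₂ := by rintro r pq hr rfl _; simp; lia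
  hc₁₃ := by rintro r pq hr rfl _; simp
  antitone_i₀ r r' pq hr hrr' := by simp; lia
  monotone_i₃ r r' pq hr hrr' := by simp; lia
  i₀_prev := by
    rintro r r' pq pq' rfl hrr' hr
    exact congrArg (fun z : ℤ => (z : EInt)) (show -pq.1 - r' + 1 = -(pq.1 + r) by lia)
  i₃_next := by
    rintro r r' pq pq' rfl hrr' hr
    exact congrArg (fun z : ℤ => (z : EInt)) (show -(pq.1 + r) + r' = -pq.1 + 1 by lia)

instance (E : SpectralObject C EInt) : E.HasSpectralSequence coreE₁ where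
  isZero_H_obj_mk₁_i₀_le r r' pq hpq n hn hrr' hr := by
    exfalso
    exact hpq _ rfl
  isZero_H_obj_mk₁_i₃_le r r' pq hpq n hn hrr' hr := by
    exfalso
    exact hpq (pq - (r, 1 - r)) (by simp)

instance : SpectralObject.SpectralSequenceDataCore.HasFirstPageComputation coreE₁ where
  hi₀₁ pq := congrArg (fun z : ℤ => (z : EInt)) (show -pq.1 - 1 + 1 = -pq.1 by lia)
  hi₂₃ pq := rfl

/-- The spectral object comes from non-negatively indexed columns in non-negative degrees. -/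
structure IsCol : Prop where
  col : ∀ (p q n : ℤ), n = p + q → p < 0 ∨ q < 0 →
    IsZero ((X.H n).obj (mk₁ (homOfLE (show ((-p : ℤ) : EInt) ≤ ((-p + 1 : ℤ) : EInt) by simp))))
  low : ∀ (n : ℤ) (j : EInt), j ≤ ((-n : ℤ) : EInt) → IsZero ((X.H n).obj (mk₁ (homOfLE (bot_le : ⊥ ≤ j))))
  high : ∀ (n : ℤ) (i : EInt), ((1 : ℤ) : EInt) ≤ i → IsZero ((X.H n).obj (mk₁ (homOfLE (le_top : i ≤ ⊤))))

/-- The filtration on the abutment. -/
noncomputable def fil (n p : ℤ) : Subobject (H n) :=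
  imageSubobject (stepMap X H e n ((-p + 1 : ℤ) : EInt))

lemma fil_antitone (n : ℤ) : Antitone (fil X H e n) := fun p p' h => by
  have hle : ((-p' + 1 : ℤ) : EInt) ≤ ((-p + 1 : ℤ) : EInt) := by simp; lia
  exact (imageSubobject_congr (stepMap_comp X H e n hle).symm).le.trans (imageSubobject_comp_le _ _)

variable {X}

lemma fil_eq_top (hX : IsCol X) (n p : ℤ) (hp : p ≤ 0) : fil X H e n p = ⊤ := by
  have hz : IsZero ((X.H n).obj (mk₁ (homOfLE (le_top : ((-p + 1 : ℤ) : EInt) ≤ ⊤)))) :=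
    hX.high n _ (by simp; lia)
  have h₁ : Epi ((X.H n).map (twoδ₂Toδ₁' ⊥ ((-p + 1 : ℤ) : EInt) ⊤ bot_le le_top)) :=
    (X.exact₂ (homOfLE (bot_le : (⊥ : EInt) ≤ _)) (homOfLE le_top) (homOfLE bot_le) rfl n).epi_f
      (hz.eq_of_tgt _ _)
  have : Epi (stepMap X H e n ((-p + 1 : ℤ) : EInt)) := epi_comp _ _
  have : Epi (fil X H e n p).arrow :=
    epi_of_epi_fac (imageSubobject_arrow_comp (stepMap X H e n ((-p + 1 : ℤ) : EInt)))
  have := isIso_of_mono_of_epi (fil X H e n p).arrow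
  exact Subobject.eq_top_of_isIso_arrow _

lemma fil_eq_bot (hX : IsCol X) (n p : ℤ) (hp : n + 1 ≤ p) : fil X H e n p = ⊥ := by
  have hz : IsZero ((X.H n).obj (mk₁ (homOfLE (bot_le : ⊥ ≤ ((-p + 1 : ℤ) : EInt))))) :=
    hX.low n _ (by simp; lia)
  exact (imageSubobject_congr (hz.eq_of_src (stepMap X H e n _) 0)).trans imageSubobject_zero

/-- A page from which a position is stationary. -/
def rk (pq : ℤ × ℤ) : ℤ := max 1 (max (pq.1 + 1) (pq.2 + 2))

variable (X) in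
/-- The associated spectral sequence. -/
noncomputable abbrev ss : CohomologicalSpectralSequence C 1 :=
  X.spectralSequence coreE₁

lemma isZero_page (hX : IsCol X) (r : ℤ) (hr : 1 ≤ r) (pq : ℤ × ℤ) (h : pq.1 < 0 ∨ pq.2 < 0) :
    IsZero (((ss X).page r hr).X pq) := by
  refine X.isZero_spectralSequence_page_X_of_isZero_H coreE₁ r hr pq
    (pq.1 + pq.2) rfl ((-pq.1 : ℤ) : EInt) ((-pq.1 + 1 : ℤ) : EInt) rfl rfl ?_
  exact hX.col pq.1 pq.2 _ rfl h

lemma stationaryAt (hX : IsCol X) (pq : ℤ × ℤ) : SpSeq.StationaryAt (ss X) pq (rk pq) :=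
  ⟨le_max_left _ _, fun r h₀ hr => by
    have h₁ : pq.1 + 1 ≤ r := le_trans (le_trans (le_max_left _ _) (le_max_right _ _)) hr
    have h₂ : pq.2 + 2 ≤ r := le_trans (le_trans (le_max_right _ _) (le_max_right _ _)) hr
    refine ⟨(isZero_page hX r h₀ _ (Or.inl ?_)).eq_of_src _ _, (isZero_page hX r h₀ _ (Or.inr ?_)).eq_of_tgt _ _⟩
    · simp; lia
    · simp; lia⟩

variable (X) in
/-- The graded pieces of the filtration are terms of the spectral object. -/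
theorem nonempty_E_iso_grPiece (hX : IsCol X) (n p q : ℤ) (hq : q = -p) (i₀ i₃ : ℤ)
    (h₀ : i₀ ≤ -(n + 1)) (h₀₁ : i₀ ≤ q) (h₂₃ : q + 1 ≤ i₃) (h₃ : 1 ≤ i₃) :
    Nonempty (X.E (homOfLE (show (i₀ : EInt) ≤ (q : EInt) by simpa))
      (homOfLE (show (q : EInt) ≤ ((q + 1 : ℤ) : EInt) by simp))
      (homOfLE (show ((q + 1 : ℤ) : EInt) ≤ (i₃ : EInt) by simpa)) (n - 1) n (n + 1) ≅
      SpSeq.grPiece (fil X H e n) (fil_antitone X H e n) p) := by
  have hl : (i₀ : EInt) ≤ (q : EInt) := by simpa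
  have hm : (q : EInt) ≤ ((q + 1 : ℤ) : EInt) := by simp
  have hr : ((q + 1 : ℤ) : EInt) ≤ (i₃ : EInt) := by simpa
  have hlow : ∀ m, m ≤ n + 1 → IsZero ((X.H m).obj (mk₁ (homOfLE (bot_le : ⊥ ≤ (i₀ : EInt))))) := fun m hm' =>
    hX.low m _ (by simp; lia)
  have hhigh : ∀ m, m ≤ n → IsZero ((X.H m).obj (mk₁ (homOfLE (le_top : (i₃ : EInt) ≤ ⊤)))) := fun m _ =>
    hX.high m _ (by simp; lia)
  have hψ : ∀ (m : ℤ), m ≤ n → ∀ (j : EInt) (hj : (i₀ : EInt) ≤ j),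
      IsIso ((X.H m).map (twoδ₁Toδ₀' ⊥ (i₀ : EInt) j bot_le hj)) := fun m hm' j hj => by
    have : Mono ((X.H m).map (twoδ₁Toδ₀' ⊥ (i₀ : EInt) j bot_le hj)) :=
      (X.exact₂ (homOfLE (bot_le : (⊥ : EInt) ≤ _)) (homOfLE hj) (homOfLE bot_le) rfl m).mono_g
        ((hlow m (by lia)).eq_of_src _ _)
    have : Epi ((X.H m).map (twoδ₁Toδ₀' ⊥ (i₀ : EInt) j bot_le hj)) :=
      (X.exact₃ (homOfLE (bot_le : (⊥ : EInt) ≤ _)) (homOfLE hj) (homOfLE bot_le) rfl m (m + 1)).epi_f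
        ((hlow (m + 1) (by lia)).eq_of_tgt _ _)
    exact isIso_of_mono_of_epi _
  let S₁ := X.cokernelSequenceE (homOfLE hl) (homOfLE hm) (homOfLE hr) (homOfLE (hl.trans hm)) rfl (n - 1) n (n + 1)
  let ψ := (X.H n).map (twoδ₁Toδ₀' ⊥ (i₀ : EInt) ((q + 1 : ℤ) : EInt) bot_le (hl.trans hm))
  let ψ' := (X.H n).map (twoδ₁Toδ₀' ⊥ (i₀ : EInt) (q : EInt) bot_le hl)
  let a : (X.H n).obj (mk₁ (homOfLE (bot_le : ⊥ ≤ (q : EInt)))) ⟶
      (X.H n).obj (mk₁ (homOfLE (bot_le : ⊥ ≤ ((q + 1 : ℤ) : EInt)))) :=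
    (X.H n).map (twoδ₂Toδ₁' ⊥ (q : EInt) ((q + 1 : ℤ) : EInt) bot_le hm)
  let d : (X.H (n - 1)).obj (mk₁ (homOfLE hr)) ⟶
      (X.H n).obj (mk₁ (homOfLE (bot_le : ⊥ ≤ ((q + 1 : ℤ) : EInt)))) :=
    X.δ (homOfLE bot_le) (homOfLE hr) (n - 1) n
  have hp : fil X H e n p = imageSubobject (stepMap X H e n ((q + 1 : ℤ) : EInt)) := by
    exact imageSubobject_stepMap_congr X H e n (by congr 1; lia)
  have hp' : fil X H e n (p + 1) = imageSubobject (stepMap X H e n (q : EInt)) := by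
    exact imageSubobject_stepMap_congr X H e n (by congr 1; lia)
  let t : (X.H n).obj (mk₁ (homOfLE (bot_le : ⊥ ≤ ((q + 1 : ℤ) : EInt)))) ⟶ fil X H e n p :=
    factorThruImageSubobject _ ≫ eqToHom (by rw [hp])
  have ht : t ≫ (fil X H e n p).arrow = stepMap X H e n ((q + 1 : ℤ) : EInt) := by
    simp only [t, Category.assoc]
    rw [Subobject.arrow_congr _ _ hp.symm, imageSubobject_arrow_comp]
  have htepi : Epi t := epi_comp _ _
  let t' : (X.H n).obj (mk₁ (homOfLE (bot_le : ⊥ ≤ (q : EInt)))) ⟶ fil X H e n (p + 1) :=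
    factorThruImageSubobject _ ≫ eqToHom (by rw [hp'])
  have ht' : t' ≫ (fil X H e n (p + 1)).arrow = stepMap X H e n (q : EInt) := by
    simp only [t', Category.assoc]
    rw [Subobject.arrow_congr _ _ hp'.symm, imageSubobject_arrow_comp]
  have ht'epi : Epi t' := epi_comp _ _
  let le' := (fil X H e n (p + 1)).ofLE _ (fil_antitone X H e n (Int.le_add_one le_rfl))
  have hat : a ≫ t = t' ≫ le' := by
    rw [← cancel_mono (fil X H e n p).arrow]
    simp only [Category.assoc, le', Subobject.ofLE_arrow, ht, ht', a, stepMap_comp]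
  have hd : d ≫ stepMap X H e n ((q + 1 : ℤ) : EInt) = 0 := by
    have hnat := X.δ_naturality (homOfLE (bot_le : (⊥ : EInt) ≤ ((q + 1 : ℤ) : EInt))) (homOfLE hr)
      (homOfLE bot_le) (homOfLE (le_top : ((q + 1 : ℤ) : EInt) ≤ ⊤)) (𝟙 _)
      (twoδ₂Toδ₁' ((q + 1 : ℤ) : EInt) (i₃ : EInt) ⊤ hr le_top) (n - 1) n rfl
    rw [CategoryTheory.Functor.map_id, Category.comp_id] at hnat
    simp only [d]
    rw [← hnat, stepMap, Category.assoc]
    erw [reassoc_of% (X.zero₁ (homOfLE bot_le) (homOfLE le_top) (homOfLE bot_le) rfl (n - 1) n (by lia))]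
    rw [zero_comp, comp_zero]
  let g : (X.H n).obj (mk₁ (homOfLE (bot_le : ⊥ ≤ ((q + 1 : ℤ) : EInt)))) ⟶
      cokernel le' := t ≫ cokernel.π le'
  have hag : a ≫ g = 0 := by
    simp only [g, ← Category.assoc, hat]
    rw [Category.assoc, cokernel.condition, comp_zero]
  have hdg : d ≫ g = 0 := by
    have : d ≫ t = 0 := by
      rw [← cancel_mono (fil X H e n p).arrow, Category.assoc, ht, zero_comp]
      exact hd
    simp only [g, ← Category.assoc, this, zero_comp]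
  let S₂ := ShortComplex.mk (biprod.desc a d) g (by ext <;> simp [hag, hdg])
  have hS₂ : S₂.Exact := by
    rw [ShortComplex.exact_iff_exact_up_to_refinements]
    intro A x hx
    have hx' : (x ≫ t) ≫ cokernel.π le' = 0 := (Category.assoc _ _ _).trans hx
    obtain ⟨A₁, π₁, _, y, hy⟩ :=
      (ShortComplex.exact_cokernel le').exact_up_to_refinements (x ≫ t) hx'
    obtain ⟨A₂, π₂, _, z, hz⟩ := surjective_up_to_refinements_of_epi t' y
    dsimp at y hy
    let w := π₂ ≫ π₁ ≫ x - z ≫ a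
    have hw : w ≫ (X.H n).map (twoδ₂Toδ₁' ⊥ ((q + 1 : ℤ) : EInt) ⊤ bot_le le_top) = 0 := by
      rw [← cancel_mono (e n).hom, zero_comp, Category.assoc]
      show w ≫ stepMap X H e n _ = 0
      rw [← ht, ← Category.assoc]
      suffices w ≫ t = 0 by rw [this, zero_comp]
      simp only [w, Preadditive.sub_comp, Category.assoc, hat, hy]
      rw [reassoc_of% hz, sub_self]
    obtain ⟨A₃, π₃, _, u, hu⟩ :=
      (X.exact₁ (homOfLE (bot_le : (⊥ : EInt) ≤ ((q + 1 : ℤ) : EInt))) (homOfLE le_top)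
        (homOfLE bot_le) rfl (n - 1) n (by lia)).exact_up_to_refinements w hw
    have hepi : Epi ((X.H (n - 1)).map (twoδ₂Toδ₁' ((q + 1 : ℤ) : EInt) (i₃ : EInt) ⊤ hr le_top)) :=
      (X.exact₂ (homOfLE hr) (homOfLE le_top) (homOfLE le_top) rfl (n - 1)).epi_f
        ((hhigh (n - 1) (by lia)).eq_of_tgt _ _)
    obtain ⟨A₄, π₄, _, v, hv⟩ := surjective_up_to_refinements_of_epi
      ((X.H (n - 1)).map (twoδ₂Toδ₁' ((q + 1 : ℤ) : EInt) (i₃ : EInt) ⊤ hr le_top)) u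
    have hnat := X.δ_naturality (homOfLE (bot_le : (⊥ : EInt) ≤ ((q + 1 : ℤ) : EInt))) (homOfLE hr)
      (homOfLE bot_le) (homOfLE (le_top : ((q + 1 : ℤ) : EInt) ≤ ⊤)) (𝟙 _)
      (twoδ₂Toδ₁' ((q + 1 : ℤ) : EInt) (i₃ : EInt) ⊤ hr le_top) (n - 1) n rfl
    rw [CategoryTheory.Functor.map_id, Category.comp_id] at hnat
    refine ⟨A₄, π₄ ≫ π₃ ≫ π₂ ≫ π₁, inferInstance,
      biprod.lift (π₄ ≫ π₃ ≫ z) v, ?_⟩
    have key : π₄ ≫ π₃ ≫ w = v ≫ d := by
      exact (congrArg (π₄ ≫ ·) hu).trans ((Category.assoc _ _ _).symm.trans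
        ((congrArg (· ≫ _) hv).trans ((Category.assoc _ _ _).trans (congrArg (v ≫ ·) hnat))))
    dsimp [S₂]
    rw [biprod.lift_desc, ← key]
    simp [w]
  have hψ'iso : IsIso ψ' := hψ n le_rfl _ hl
  have hψiso : IsIso ψ := hψ n le_rfl _ (hl.trans hm)
  have c₁ : a ≫ ψ = ψ' ≫ (X.H n).map (twoδ₂Toδ₁' (i₀ : EInt) (q : EInt) ((q + 1 : ℤ) : EInt) hl hm) := by
    simp only [a, ψ, ψ', ← Functor.map_comp]
    congr 1
  have c₂ : d ≫ ψ = X.δ (homOfLE (hl.trans hm)) (homOfLE hr) (n - 1) n := by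
    have h := X.δ_naturality (homOfLE (bot_le : (⊥ : EInt) ≤ ((q + 1 : ℤ) : EInt))) (homOfLE hr)
      (homOfLE (hl.trans hm)) (homOfLE hr)
      (twoδ₁Toδ₀' ⊥ (i₀ : EInt) ((q + 1 : ℤ) : EInt) bot_le (hl.trans hm)) (𝟙 _) (n - 1) n rfl
    rw [CategoryTheory.Functor.map_id, Category.id_comp] at h
    exact h.symm
  let g₁ : (X.H n).obj (mk₁ (homOfLE (hl.trans hm))) ⟶
      X.E (homOfLE hl) (homOfLE hm) (homOfLE hr) (n - 1) n (n + 1) :=
    X.toCycles (homOfLE hl) (homOfLE hm) (homOfLE (hl.trans hm)) rfl n ≫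
      X.πE (homOfLE hl) (homOfLE hm) (homOfLE hr) (n - 1) n (n + 1)
  have hz : biprod.desc ((X.H n).map (twoδ₂Toδ₁' (i₀ : EInt) (q : EInt) ((q + 1 : ℤ) : EInt) hl hm))
      (X.δ (homOfLE (hl.trans hm)) (homOfLE hr) (n - 1) n) ≫ g₁ = 0 := S₁.zero
  have z₁ : (X.H n).map (twoδ₂Toδ₁' (i₀ : EInt) (q : EInt) ((q + 1 : ℤ) : EInt) hl hm) ≫ g₁ = 0 := by
    simpa using biprod.inl ≫= hz
  have z₂ : X.δ (homOfLE (hl.trans hm)) (homOfLE hr) (n - 1) n ≫ g₁ = 0 := by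
    simpa using biprod.inr ≫= hz
  let S₂' := ShortComplex.mk (biprod.desc a d) (ψ ≫ g₁) (by
    ext
    · rw [biprod.inl_desc_assoc, comp_zero, reassoc_of% c₁, z₁, comp_zero]
    · rw [biprod.inr_desc_assoc, comp_zero, reassoc_of% c₂, z₂])
  have hS₂' : S₂'.Exact := by
    refine ShortComplex.exact_of_iso (S₁ := S₁) (S₂ := S₂')
      (ShortComplex.isoMk (biprod.mapIso (asIso ψ').symm (Iso.refl _)) (asIso ψ).symm (Iso.refl _) ?_ ?_)
      (X.cokernelSequenceE_exact (homOfLE hl) (homOfLE hm) (homOfLE hr)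
        (homOfLE (hl.trans hm)) rfl (n - 1) n (n + 1))
    · show (biprod.mapIso (asIso ψ').symm (Iso.refl _)).hom ≫ biprod.desc a d =
        biprod.desc ((X.H n).map (twoδ₂Toδ₁' (i₀ : EInt) (q : EInt) ((q + 1 : ℤ) : EInt) hl hm))
          (X.δ (homOfLE (hl.trans hm)) (homOfLE hr) (n - 1) n) ≫ inv ψ
      apply biprod.hom_ext'
      · simp only [biprod.mapIso_hom, Iso.symm_hom, asIso_inv, biprod.inl_map_assoc, biprod.inl_desc,
          biprod.inl_desc_assoc]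
        rw [IsIso.inv_comp_eq, ← reassoc_of% c₁, IsIso.hom_inv_id, Category.comp_id]
      · simp only [biprod.mapIso_hom, Iso.refl_hom, biprod.inr_map_assoc, biprod.inr_desc,
          biprod.inr_desc_assoc]
        rw [Category.id_comp, ← c₂, Category.assoc, IsIso.hom_inv_id, Category.comp_id]
    · show inv ψ ≫ ψ ≫ g₁ = g₁ ≫ 𝟙 _
      rw [IsIso.inv_hom_id_assoc, Category.comp_id]
  have : Epi S₂'.g := by
    have : Epi g₁ := by dsimp [g₁]; infer_instance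
    dsimp [S₂']; exact epi_comp _ _
  have : Epi S₂.g := by dsimp [S₂, g]; exact epi_comp _ _
  exact ⟨(hS₂'.gIsCokernel).coconePointUniqueUpToIso hS₂.gIsCokernel⟩

/-- The abutment. -/
noncomputable def abutment (hX : IsCol X) : SpSeq.Abutment (ss X) H where
  fil := fil X H e
  anti := fil_antitone X H e
  rk := rk
  stat := stationaryAt hX
  β pq :=
    X.spectralSequencePageXIso coreE₁ (rk pq) (le_max_left _ _) pq
        (((-pq.1 - rk pq + 1 : ℤ)) : EInt) ((-pq.1 : ℤ) : EInt) ((-pq.1 + 1 : ℤ) : EInt)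
        ((-pq.1 + rk pq : ℤ) : EInt) rfl rfl rfl rfl
        (pq.1 + pq.2 - 1) (pq.1 + pq.2) (pq.1 + pq.2 + 1) rfl ≪≫
      (nonempty_E_iso_grPiece X H e hX (pq.1 + pq.2) pq.1 (-pq.1) rfl (-pq.1 - rk pq + 1) (-pq.1 + rk pq)
        (by simp [rk]; lia) (by simp [rk]; lia) (by simp [rk]) (by simp [rk])).some

lemma abutment_isFinite (hX : IsCol X) (n : ℤ) : (abutment H e hX).IsFinite n :=
  ⟨⟨0, fil_eq_top H e hX n 0 le_rfl⟩, ⟨n + 1, fil_eq_bot H e hX n (n + 1) le_rfl⟩⟩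

lemma isBounded (hX : IsCol X) : SpSeq.IsBounded (ss X) := fun n => by
  refine (Set.finite_Icc 0 n).subset fun p hp => ?_
  simp only [Set.mem_Icc]
  by_contra h
  exact hp (isZero_page hX 1 le_rfl (p, n - p) (by simp; lia))

variable (X) in
/-- The first page. -/
noncomputable def pageOneIso (p q : ℤ) :
    ((ss X).page 1 le_rfl).X (p, q) ≅
      (X.H (p + q)).obj (mk₁ (homOfLE (show ((-p : ℤ) : EInt) ≤ ((-p + 1 : ℤ) : EInt) by simp))) :=
  X.spectralSequenceFirstPageXIso coreE₁ (p, q) _ _ rfl rfl _ rfl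

end Groth.Agent.TopDesc98
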